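import Groth.Agent.CAlg1.FlatFibre
import Groth.Agent.CAlg1.SerreNormal
import Groth.Agent.EGA4Alg4.Depth
import Groth.Agent.Mero90.Depth

/-! Embedded components of ideals along flat local homomorphisms. -/

set_option autoImplicit false
set_option linter.style.haveILetI false

open IsLocalRing TensorProduct nonZeroDivisors

universe u

namespace Groth.Agent.An92.DivDesc

variable {A B : Type u} [CommRing A] [CommRing B]

/-- The closed point is associated to `B/J`. -/
def Bad [IsLocalRing B] (J : Ideal B) : Prop :=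
  ∃ c, c ∉ J ∧ ∀ t ∈ maximalIdeal B, t * c ∈ J

theorem Bad.ne_top [IsLocalRing B] {J : Ideal B} (h : Bad J) : J ≠ ⊤ := by
  rintro rfl
  obtain ⟨c, hc, -⟩ := h
  exact hc trivial

variable [IsNoetherianRing B]

/-- An inclusion of ideals is checked at the associated primes of the larger one. -/
theorem exists_prime_of_not_le {I J : Ideal B} (h : ¬ I ≤ J) :
    ∃ c ∈ I, ∃ e, e ∉ J ∧ ∃ Q : Ideal B, Q.IsPrime ∧ (∀ s, s * c ∈ J → s ∈ Q) ∧ ∀ s, s ∈ Q ↔ s * e ∈ J := by
  obtain ⟨c, hcI, hcJ⟩ := SetLike.not_le_iff_exists.1 h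
  have hcol : ∀ (z s : B), s ∈ (⊥ : Submodule B (B ⧸ J)).colon {Ideal.Quotient.mk J z} ↔ s * z ∈ J := by
    intro z s
    rw [Submodule.mem_colon_singleton, Submodule.mem_bot, ← Ideal.Quotient.eq_zero_iff_mem, map_mul]
    rfl
  obtain ⟨Q, hQ, hle⟩ := exists_le_isAssociatedPrime_of_isNoetherianRing B (Ideal.Quotient.mk J c)
    (fun h0 => hcJ (Ideal.Quotient.eq_zero_iff_mem.1 h0))
  obtain ⟨hQp, e', hQe⟩ := isAssociatedPrime_iff.1 hQ
  obtain ⟨e, rfl⟩ := Ideal.Quotient.mk_surjective e'
  refine ⟨c, hcI, e, fun he => hQp.ne_top ?_, Q, hQp, fun s hs => hle ((hcol c s).2 hs), fun s => ?_⟩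
  · rw [hQe, eq_top_iff]
    exact fun s _ => (hcol e s).2 (J.mul_mem_left s he)
  · rw [hQe]; exact hcol e s

variable [IsLocalRing B]

theorem bad_iff_depth {J : Ideal B} : Bad J ↔ LocCoh.depth B (B ⧸ J) = 0 := by
  have hcol : ∀ (z s : B), s ∈ (⊥ : Submodule B (B ⧸ J)).colon {Ideal.Quotient.mk J z} ↔ s * z ∈ J := by
    intro z s
    rw [Submodule.mem_colon_singleton, Submodule.mem_bot, ← Ideal.Quotient.eq_zero_iff_mem, map_mul]
    rfl
  rw [EGA4Alg4.depth_eq_zero_iff, AssociatedPrimes.mem_iff, isAssociatedPrime_iff]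
  constructor
  · rintro ⟨c, hc, h⟩
    refine ⟨inferInstance, Ideal.Quotient.mk J c, le_antisymm (fun t ht => (hcol c t).2 (h t ht)) ?_⟩
    refine IsLocalRing.le_maximalIdeal fun htop => hc ?_
    have h1 := (hcol c 1).1 (htop ▸ Submodule.mem_top)
    rwa [one_mul] at h1
  · rintro ⟨-, e', he⟩
    obtain ⟨e, rfl⟩ := Ideal.Quotient.mk_surjective e'
    refine ⟨e, fun heJ => (maximalIdeal.isMaximal B).ne_top ?_, fun t ht => (hcol e t).1 (he.le ht)⟩
    rw [he, eq_top_iff]
    exact fun s _ => (hcol e s).2 (J.mul_mem_left s heJ)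

variable [IsNoetherianRing A] [IsLocalRing A] [Algebra A B] [IsLocalHom (algebraMap A B)] [Module.Flat A B]

/-- An embedded point of `B/IB` lies over one of `A/I` and is one of the closed fibre. -/
theorem bad_of_bad_map {I : Ideal A} (h : Bad (I.map (algebraMap A B))) :
    Bad I ∧ Bad ((maximalIdeal A).map (algebraMap A B)) := by
  have h1 := CAlg1.depth_tensor_flat (R := A) (S := B) (N := B) (M := A ⧸ I)
  have h2 : LocCoh.depth B (B ⊗[A] (A ⧸ I)) = 0 := by
    rw [EGA4Alg4.depth_eq_of_equiv (Algebra.TensorProduct.quotIdealMapEquivTensorQuot B I).symm.toLinearEquiv]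
    exact bad_iff_depth.1 h
  rw [h2, eq_comm, add_eq_zero] at h1
  refine ⟨bad_iff_depth.2 h1.1, bad_iff_depth.2 ?_⟩
  rw [← h1.2]
  exact EGA4Alg4.depth_eq_of_equiv (Submodule.quotEquivOfEq _ _ (by rw [smul_eq_mul, Ideal.mul_top]))

/-- An embedded point of a principal divisor over a normal base lies over codimension at most one and is
one of the closed fibre. -/
theorem bad_principal [IsDomain A] [IsIntegrallyClosed A] {g : B} (hg : g ∈ B⁰) (h : Bad (Ideal.span {g}))
    (hfield : IsField A → IsUnit g) :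
    ringKrullDim A = 1 ∧ Bad ((maximalIdeal A).map (algebraMap A B)) := by
  obtain ⟨c, hc, hmc⟩ := h
  have hgm : g ∈ maximalIdeal B := fun hu => hc (by
    rw [Ideal.span_singleton_eq_top.2 hu]; trivial)
  have hd : LocCoh.depth B B = 1 := Mero90.depth_eq_one hgm hg (x := c)
    (fun hdvd => hc (Ideal.mem_span_singleton.2 hdvd)) (fun t ht => Ideal.mem_span_singleton.1 (hmc t ht))
  rw [CAlg1.depth_of_flat_local A B] at hd
  have hnf : ¬ IsField A := fun hf => hgm (hfield hf)
  have hA0 : LocCoh.depth A A ≠ 0 := fun h0 => hnf (IsLocalRing.isField_iff_maximalIdeal_eq.2 (by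
    refine le_bot_iff.1 fun r hr => Ideal.mem_bot.2 (by_contra fun hr0 => ?_)
    exact Mero90.depth_eq_zero_iff.1 h0 r hr (mem_nonZeroDivisors_of_ne_zero hr0)))
  generalize hfd : LocCoh.depth B (B ⧸ (maximalIdeal A).map (algebraMap A B)) = b at hd
  have hA1 : LocCoh.depth A A = 1 := le_antisymm (hd ▸ le_self_add) (Order.one_le_iff_ne_zero.2 hA0)
  rw [hA1] at hd
  have hb : b = 0 := by
    induction b using ENat.recTopCoe with
    | top => simp at hd
    | coe m => norm_cast at hd ⊢; omega
  refine ⟨le_antisymm ?_ ?_, bad_iff_depth.2 (hfd.trans hb)⟩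
  · by_contra hlt
    have h2 : (2 : WithBot ℕ∞) ≤ ringKrullDim A := by
      rw [not_le] at hlt
      revert hlt
      generalize ringKrullDim A = d
      intro hlt
      induction d with
      | bot => exact absurd hlt not_lt_bot
      | coe d =>
        induction d using ENat.recTopCoe with
        | top => exact le_top
        | coe m =>
          have h2 : 1 < m := by exact_mod_cast hlt
          exact WithBot.coe_le_coe.2 (Nat.ofNat_le_cast.2 h2)
    have := CAlg1.two_le_depth_of_isIntegrallyClosed A h2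
    rw [hA1] at this
    exact absurd this (by norm_num)
  · by_contra hlt
    have h0 : ringKrullDim A = 0 := by
      refine le_antisymm ?_ ringKrullDim_nonneg_of_nontrivial
      rw [not_le] at hlt
      revert hlt
      generalize ringKrullDim A = d
      intro hlt
      induction d with
      | bot => exact bot_le
      | coe d =>
        induction d using ENat.recTopCoe with
        | top => exact absurd hlt (by simp)
        | coe m => norm_cast at hlt ⊢; omega
    haveI : Ring.KrullDimLE 0 A := Ring.krullDimLE_iff.2 h0.le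
    exact hnf (Ring.KrullDimLE.isField_of_isDomain)

end Groth.Agent.An92.DivDesc
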