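import Groth.Agent.An92.DivDesc.OrdSheaf
import Groth.Agent.SpFP87.CartierDesc

/-! Descent of effective Cartier divisors along faithfully flat morphisms to normal schemes. -/

set_option autoImplicit false
set_option linter.style.haveILetI false

universe u

open CategoryTheory AlgebraicGeometry IsLocalRing Opposite nonZeroDivisors
open Groth.Agent.Div89

namespace Groth.Agent.An92.DivDesc

variable {X Y : Scheme.{u}}

theorem stalkIdeal_map_specializes (J : X.IdealSheafData) {q x : X} (h : q ⤳ x) :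
    (stalkIdeal J x).map (X.presheaf.stalkSpecializes h).hom = stalkIdeal J q := by
  obtain ⟨U, hx⟩ := exists_affine_mem x
  rw [stalkIdeal_eq J U x hx, stalkIdeal_eq J U q (mem_affine_of_specializes h hx), Ideal.map_map,
    ← CommRingCat.hom_comp]
  erw [TopCat.Presheaf.germ_stalkSpecializes]

/-- Inclusions of ideal sheaves are checked at the embedded points of the larger one. -/
theorem le_of_bad [IsLocallyNoetherian X] (K J : X.IdealSheafData)
    (h : ∀ x, Bad (stalkIdeal J x) → stalkIdeal K x ≤ stalkIdeal J x) : K ≤ J := by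
  refine (le_iff_stalkIdeal K J).2 fun x => by_contra fun hle => ?_
  obtain ⟨c, hcK, e, he, Q, hQ, hQc, hQe⟩ := exists_prime_of_not_le hle
  let p : PrimeSpectrum (X.presheaf.stalk x) := ⟨Q, hQ⟩
  have hq := Cyc90.fromSpecStalk_specializes p
  letI := (X.presheaf.stalkSpecializes hq).hom.toAlgebra
  haveI := Cyc90.isLocalization_genPrime hq
  have hpc : (Cyc90.genPrime hq).asIdeal = Q := congrArg PrimeSpectrum.asIdeal (Cyc90.genPrime_fromSpecStalk p)
  have key : ∀ a, algebraMap (X.presheaf.stalk x) (X.presheaf.stalk (X.fromSpecStalk x p)) a ∈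
      stalkIdeal J (X.fromSpecStalk x p) → ∃ s, s ∉ Q ∧ s * a ∈ stalkIdeal J x := fun a ha => by
    rw [← stalkIdeal_map_specializes J hq] at ha
    obtain ⟨s, hs, hsa⟩ := (IsLocalization.algebraMap_mem_map_algebraMap_iff
      (Cyc90.genPrime hq).asIdeal.primeCompl (X.presheaf.stalk (X.fromSpecStalk x p)) _ a).1 ha
    exact ⟨s, hpc ▸ hs, hsa⟩
  have hKle : stalkIdeal K (X.fromSpecStalk x p) ≤ stalkIdeal J (X.fromSpecStalk x p) := by
    refine h _ ⟨algebraMap (X.presheaf.stalk x) _ e, fun hmem => ?_, fun t ht => ?_⟩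
    · obtain ⟨s, hs, hse⟩ := key e hmem
      exact hs ((hQe s).2 hse)
    · rw [← IsLocalization.AtPrime.map_eq_maximalIdeal (Cyc90.genPrime hq).asIdeal
        (X.presheaf.stalk (X.fromSpecStalk x p))] at ht
      have h2 : ((Cyc90.genPrime hq).asIdeal).map (algebraMap (X.presheaf.stalk x) _) ≤
          ((stalkIdeal J (X.fromSpecStalk x p)).colon
            {algebraMap (X.presheaf.stalk x) (X.presheaf.stalk (X.fromSpecStalk x p)) e}) :=
        Ideal.map_le_iff_le_comap.2 fun s hs => by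
          rw [Ideal.mem_comap, Submodule.mem_colon_singleton, smul_eq_mul, ← map_mul,
            ← stalkIdeal_map_specializes J hq]
          exact Ideal.mem_map_of_mem _ ((hQe s).1 (hpc ▸ hs))
      exact Submodule.mem_colon_singleton.1 (h2 ht)
  rw [← stalkIdeal_map_specializes K hq] at hKle
  obtain ⟨s, hs, hsc⟩ := key c (hKle (Ideal.mem_map_of_mem _ hcK))
  exact hs (hQc s hsc)

/-- The ideal of the inverse image on the spectrum of a local ring. -/
theorem map_ideal_comap_spec (J : X.IdealSheafData) (R : CommRingCat.{u}) [IsLocalRing R] (g : Spec R ⟶ X) :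
    ((J.comap g).ideal ⟨⊤, isAffineOpen_top _⟩).map (Scheme.ΓSpecIso R).hom.hom =
      (stalkIdeal J (g (closedPoint R))).map (Scheme.stalkClosedPointTo g).hom := by
  have h1 : stalkIdeal (J.comap g) (closedPoint R) = _ := stalkIdeal_comap g J (closedPoint R)
  have h0 : stalkIdeal (J.comap g) (closedPoint R) = _ :=
    stalkIdeal_eq (J.comap g) ⟨⊤, isAffineOpen_top _⟩ (closedPoint R) trivial
  have h2 := congrArg (Ideal.map (stalkClosedPointIso R).hom.hom) (h0.symm.trans h1)
  rw [Ideal.map_map, Ideal.map_map, ← CommRingCat.hom_comp, ← CommRingCat.hom_comp,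
    AlgebraicGeometry.germ_stalkClosedPointIso_hom] at h2
  exact h2

/-- The ideal of a divisor on the spectrum of a local ring. -/
theorem ideal_comap_fromSpecStalk_eq_iff (J : X.IdealSheafData) (x : X) (u : X.presheaf.stalk x) :
    (J.comap (X.fromSpecStalk x)).ideal ⟨⊤, isAffineOpen_top _⟩ =
        Ideal.span {(Scheme.ΓSpecIso (X.presheaf.stalk x)).inv u} ↔
      stalkIdeal J x = Ideal.span {u} := by
  have h2 := map_ideal_comap_spec J (X.presheaf.stalk x) (X.fromSpecStalk x)
  rw [Scheme.stalkClosedPointTo_fromSpecStalk] at h2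
  replace h2 := h2.trans (stalkIdeal_map_specializes J (specializes_of_eq Scheme.fromSpecStalk_closedPoint.symm))
  generalize (J.comap (X.fromSpecStalk x)).ideal ⟨⊤, isAffineOpen_top _⟩ = I at h2 ⊢
  have e : (Scheme.ΓSpecIso (X.presheaf.stalk x)).hom ((Scheme.ΓSpecIso (X.presheaf.stalk x)).inv u) = u :=
    (Scheme.ΓSpecIso (X.presheaf.stalk x)).commRingCatIsoToRingEquiv.apply_symm_apply u
  constructor
  · rintro rfl
    rw [← h2, Ideal.map_span, Set.image_singleton]
    exact congrArg (fun v => Ideal.span ({v} : Set (X.presheaf.stalk x))) e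
  · intro h
    have := congrArg (Ideal.map (Scheme.ΓSpecIso (X.presheaf.stalk x)).inv.hom) (h2.trans h)
    rw [Ideal.map_map, ← CommRingCat.hom_comp, Iso.hom_inv_id, CommRingCat.hom_id, Ideal.map_id,
      Ideal.map_span, Set.image_singleton] at this
    exact this

theorem stalkCongr_refl_apply (y : Y) (h : Inseparable y y) (t : Y.presheaf.stalk y) :
    (Y.presheaf.stalkCongr h).hom t = t := by
  rw [show (Y.presheaf.stalkCongr h).hom = Y.presheaf.stalkSpecializes (specializes_refl y) from rfl,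
    TopCat.Presheaf.stalkSpecializes_refl]
  rfl

variable [IsLocallyNoetherian X] [IsLocallyNoetherian Y]

omit [IsLocallyNoetherian Y] in
theorem isField_of_maximal (hY : Pi1.IsNormalScheme Y) (η : Y) (hη : ∀ z : Y, z ⤳ η → z = η) :
    IsField (Y.presheaf.stalk η) := by
  haveI := (hY η).1
  rw [isField_iff_maximalIdeal_eq]
  let p : PrimeSpectrum (Y.presheaf.stalk η) := ⟨⊥, Ideal.isPrime_bot⟩
  have h := Cyc90.genPrime_fromSpecStalk p
  have h' : Cyc90.genPrime (Cyc90.fromSpecStalk_specializes p) = Cyc90.genPrime (specializes_refl η) :=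
    (Cyc90.genPrime_eq_iff _ _).2 (hη _ (Cyc90.fromSpecStalk_specializes p))
  rw [h, Cyc90.genPrime_refl] at h'
  exact (congrArg PrimeSpectrum.asIdeal h').symm

omit [IsLocallyNoetherian Y] [IsLocallyNoetherian X] in
theorem maximal_of_isField (y : Y) (hy : IsField (Y.presheaf.stalk y)) (z : Y) (h : z ⤳ y) : z = y := by
  rw [← Cyc90.genPrime_eq_iff h (specializes_refl y), Cyc90.genPrime_refl]
  refine PrimeSpectrum.ext ?_
  exact ((maximalIdeal.isMaximal _).eq_of_le (Cyc90.genPrime h).2.ne_top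
    (by rw [isField_iff_maximalIdeal_eq.1 hy]; exact bot_le)).symm

theorem isField_of_specializes_of_dim_one (hY : Pi1.IsNormalScheme Y) {q y : Y} (h : q ⤳ y) (hne : q ≠ y)
    (hy : ringKrullDim (Y.presheaf.stalk y) = 1) : IsField (Y.presheaf.stalk q) := by
  haveI := (hY q).1
  have hlt := ringKrullDim_lt_of_specializes h hne
  rw [hy] at hlt
  have h0 : ringKrullDim (Y.presheaf.stalk q) ≤ 0 := by
    revert hlt
    generalize ringKrullDim (Y.presheaf.stalk q) = d
    intro hlt
    induction d with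
    | bot => exact bot_le
    | coe d =>
      induction d using ENat.recTopCoe with
      | top => exact absurd hlt (by simp)
      | coe m => norm_cast at hlt ⊢; omega
  haveI : Ring.KrullDimLE 0 (Y.presheaf.stalk q) := Ring.krullDimLE_iff.2 h0
  exact Ring.KrullDimLE.isField_of_isDomain

variable (f : X ⟶ Y) [Flat f] [Surjective f]

omit [IsLocallyNoetherian X] [IsLocallyNoetherian Y] [Flat f] [Surjective f] in
theorem stalkIdeal_eq_top_of_field {J : X.IdealSheafData} {x : X} (hy : IsField (Y.presheaf.stalk (f x)))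
    (h : J.comap (f.fiberι (f x)) = ⊤) : stalkIdeal J x = ⊤ := by
  have := (comap_fiberι_eq_top_iff f J (f x)).1 h x rfl
  rwa [fibreIdeal, isField_iff_maximalIdeal_eq.1 hy, Ideal.map_bot, sup_bot_eq] at this

omit [IsLocallyNoetherian X] [Flat f] [Surjective f] in
/-- Necessity of the two conditions. -/
theorem conditions_of_comap (hY : Pi1.IsNormalScheme Y) {I : Y.IdealSheafData}
    (hI : BlowUp.IsEffCartierIdeal I) :
    (∀ η : Y, (∀ z : Y, z ⤳ η → z = η) → (I.comap f).comap (f.fiberι η) = ⊤) ∧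
      ∀ y : Y, ringKrullDim (Y.presheaf.stalk y) = 1 → ∃ n : ℕ, ∀ t : Y.presheaf.stalk y,
        maximalIdeal (Y.presheaf.stalk y) = Ideal.span {t} → ∀ (x : X) (hx : f x = y),
          stalkIdeal (I.comap f) x =
            Ideal.span {((f.stalkMap x).hom ((Y.presheaf.stalkCongr (.of_eq hx.symm)).hom t)) ^ n} := by
  refine ⟨fun η hη => ?_, fun y hy => ?_⟩
  · haveI := (hY η).1
    obtain ⟨g, hg, hgI⟩ := exists_stalk_generator hI η
    have hgu : IsUnit g := by
      obtain ⟨b, hb⟩ := (isField_of_maximal hY η hη).mul_inv_cancel (nonZeroDivisors.ne_zero hg)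
      exact IsUnit.of_mul_eq_one b hb
    refine (comap_fiberι_eq_top_iff f _ η).2 fun x hx => ?_
    subst hx
    rw [stalkIdeal_comap, hgI, Ideal.span_singleton_eq_top.2 hgu, Ideal.map_top, top_sup_eq]
  · haveI := (hY y).1
    haveI := (hY y).2
    obtain ⟨t₀, ht₀, hdvr⟩ := exists_uniformizer (Y.presheaf.stalk y) hy
    obtain ⟨g, hg, hgI⟩ := exists_stalk_generator hI y
    have hne : Ideal.span {g} ≠ ⊥ := fun e => nonZeroDivisors.ne_zero hg (Ideal.span_singleton_eq_bot.1 e)
    obtain ⟨k, hk⟩ := IsDiscreteValuationRing.ideal_eq_span_pow_irreducible hne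
      ((IsDiscreteValuationRing.irreducible_iff_uniformizer t₀).2 ht₀)
    refine ⟨k, fun t ht x hx => ?_⟩
    subst hx
    rw [stalkIdeal_comap, hgI, hk, stalkCongr_refl_apply, ← Ideal.span_singleton_pow,
      ← Ideal.span_singleton_pow, ← ht₀, ht, Ideal.map_pow, Ideal.map_span, Set.image_singleton]

/-- Sufficiency of the two conditions. -/
theorem exists_descent (hf : QuasiCompact f ∨ IsOpenMap f) (hY : Pi1.IsNormalScheme Y)
    (hfib : ∀ y : Y, ringKrullDim (Y.presheaf.stalk y) = 1 → ∀ z z' : ↥(f.fiber y),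
      IsAssociatedPrime (maximalIdeal ↑((f.fiber y).presheaf.stalk z)) ↑((f.fiber y).presheaf.stalk z) →
      IsAssociatedPrime (maximalIdeal ↑((f.fiber y).presheaf.stalk z')) ↑((f.fiber y).presheaf.stalk z') →
      z' ⤳ z → z' = z)
    (J : X.IdealSheafData) (hJ : BlowUp.IsEffCartierIdeal J)
    (h1 : ∀ η : Y, (∀ z : Y, z ⤳ η → z = η) → J.comap (f.fiberι η) = ⊤)
    (h2 : ∀ y : Y, ringKrullDim (Y.presheaf.stalk y) = 1 → ∃ n : ℕ, ∀ t : Y.presheaf.stalk y,
      maximalIdeal (Y.presheaf.stalk y) = Ideal.span {t} → ∀ (x : X) (hx : f x = y), IsMaxFibre f x →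
        stalkIdeal J x =
          Ideal.span {((f.stalkMap x).hom ((Y.presheaf.stalkCongr (.of_eq hx.symm)).hom t)) ^ n}) :
    ∃ I : Y.IdealSheafData, BlowUp.IsEffCartierIdeal I ∧ I.comap f = J := by
  classical
  let n : Y → ℕ := fun y =>
    if h : ringKrullDim (Y.presheaf.stalk y) = 1 then (h2 y h).choose else 0
  have hn : ∀ y, n y ≠ 0 → ringKrullDim (Y.presheaf.stalk y) = 1 := fun y h =>
    by_contra fun h' => h (dif_neg h')
  have hmax : ∀ (y : Y), ringKrullDim (Y.presheaf.stalk y) = 1 → ∀ x, f x = y → IsMaxFibre f x →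
      stalkIdeal J x = (maximalIdeal (Y.presheaf.stalk (f x)) ^ n (f x)).map (f.stalkMap x).hom := by
    intro y hy x hx hxm
    subst hx
    haveI := (hY (f x)).1
    haveI := (hY (f x)).2
    obtain ⟨t, ht, -⟩ := exists_uniformizer (Y.presheaf.stalk (f x)) hy
    have hne : n (f x) = (h2 (f x) hy).choose := dif_pos hy
    rw [(h2 (f x) hy).choose_spec t ht x rfl hxm, stalkCongr_refl_apply, hne]
    generalize (h2 (f x) hy).choose = k
    rw [ht, Ideal.map_pow,
      Ideal.map_span, Set.image_singleton, Ideal.span_singleton_pow]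
  have hfld : ∀ x, IsField (Y.presheaf.stalk (f x)) → stalkIdeal J x = ⊤ := fun x hx =>
    stalkIdeal_eq_top_of_field f hx (h1 _ fun z hz => maximal_of_isField _ hx z hz)
  have hsupp : ∀ x, n (f x) ≠ 0 → IsMaxFibre f x → ∀ (U : X.affineOpens) (hxU : x ∈ U.1),
      primeAt U x hxU ∈ (J.ideal U).minimalPrimes := by
    intro x hx hxm U hxU
    have hd := hn _ hx
    have hxJ : x ∈ J.support := by
      rw [mem_support_iff_stalkIdeal, hmax _ hd x rfl hxm]
      exact (Ideal.map_mono (Ideal.pow_le_self hx)).trans (Cyc90.map_maximalIdeal_le f x)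
    refine ⟨⟨primeAt_isPrime U x hxU, (mem_support_iff_le J U x hxU).1 hxJ⟩, fun P ⟨hP, hJP⟩ hle => ?_⟩
    obtain ⟨z, hz, rfl⟩ := exists_point U P (hp := hP)
    have hzx := (specializes_iff_primeAt_le U hxU hz).2 hle
    have hzJ : z ∈ J.support := (mem_support_iff_le J U z hz).2 hJP
    have hfz : f z = f x := by
      by_contra hne
      exact (notMem_support_iff_stalkIdeal J z).2
        (hfld z (isField_of_specializes_of_dim_one hY (hzx.map f.continuous) hne hd)) hzJ
    cases hxm z hfz hzx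
    exact le_rfl
  have hcov : ∀ V : Y.affineOpens, ∃ S : Finset X.affineOpens, ∀ y ∈ V.1, ∃ U ∈ S, ∃ x ∈ U.1, f x = y := by
    intro V
    rcases hf with hqc | hop
    · obtain ⟨s, hs⟩ := (f.isCompact_preimage V.2.isCompact).elim_finite_subcover
        (fun U : X.affineOpens => (U.1 : Set X)) (fun U => U.1.isOpen) (fun x _ => by
          obtain ⟨U, hU⟩ := exists_affine_mem x
          exact Set.mem_iUnion.2 ⟨U, hU⟩)
      refine ⟨s, fun y hy => ?_⟩
      obtain ⟨x, rfl⟩ := f.surjective y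
      obtain ⟨U, hU, hxU⟩ := Set.mem_iUnion₂.1 (hs (show x ∈ f ⁻¹' V.1 from hy))
      exact ⟨U, hU, x, hxU, rfl⟩
    · obtain ⟨s, hs⟩ := V.2.isCompact.elim_finite_subcover (fun U : X.affineOpens => f '' U.1)
        (fun U => hop _ U.1.isOpen) (fun y _ => by
          obtain ⟨x, rfl⟩ := f.surjective y
          obtain ⟨U, hU⟩ := exists_affine_mem x
          exact Set.mem_iUnion.2 ⟨U, x, hU, rfl⟩)
      refine ⟨s, fun y hy => ?_⟩
      obtain ⟨U, hU, x, hxU, hx⟩ := Set.mem_iUnion₂.1 (hs hy)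
      exact ⟨U, hU, x, hxU, hx⟩
  have hfin : ∀ V : Y.affineOpens, {y : Y | y ∈ V.1 ∧ n y ≠ 0}.Finite := by
    intro V
    obtain ⟨S, hS⟩ := hcov V
    let T : X.affineOpens → Set X := fun U =>
      {x | ∃ hx : x ∈ U.1, primeAt U x hx ∈ (J.ideal U).minimalPrimes}
    have hT : ∀ U, (T U).Finite := fun U => by
      haveI : IsNoetherianRing Γ(X, U.1) := IsLocallyNoetherian.component_noetherian U
      refine Set.Finite.of_finite_image (f := fun x => if hx : x ∈ U.1 then primeAt U x hx else ⊤)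
        (((J.ideal U).finite_minimalPrimes_of_isNoetherianRing Γ(X, U.1)).subset ?_) ?_
      · rintro _ ⟨x, ⟨hx, hm⟩, rfl⟩
        simp only [dif_pos hx]
        exact hm
      · rintro x ⟨hx, -⟩ x' ⟨hx', -⟩ e
        simp only [dif_pos hx, dif_pos hx'] at e
        exact primeAt_inj U hx hx' e
    refine ((S.finite_toSet.biUnion fun U _ => hT U).image f).subset fun y ⟨hyV, hy⟩ => ?_
    obtain ⟨U, hU, x₀, hx₀, rfl⟩ := hS y hyV
    obtain ⟨x, hxx, hfx, hxm⟩ := exists_isMaxFibre f x₀
    have hxU := mem_affine_of_specializes hxx hx₀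
    exact ⟨x, Set.mem_biUnion hU ⟨hxU, hsupp x (hfx ▸ hy) hxm U hxU⟩, hfx⟩
  let I := ordSheaf n hfin
  have hagree : ∀ x, Bad (stalkIdeal J x) ∨ Bad (stalkIdeal (I.comap f) x) →
      stalkIdeal (I.comap f) x = stalkIdeal J x := by
    intro x hbad
    letI := (f.stalkMap x).hom.toAlgebra
    haveI : IsLocalHom (algebraMap (Y.presheaf.stalk (f x)) (X.presheaf.stalk x)) :=
      inferInstanceAs (IsLocalHom (f.stalkMap x).hom)
    haveI : Module.Flat (Y.presheaf.stalk (f x)) (X.presheaf.stalk x) := Flat.stalkMap f x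
    haveI := (hY (f x)).1
    haveI := (hY (f x)).2
    have key : ringKrullDim (Y.presheaf.stalk (f x)) = 1 ∧ Bad (fibreIdeal f x) := by
      rcases hbad with hb | hb
      · obtain ⟨g, hg, hgJ⟩ := exists_stalk_generator hJ x
        have zz := bad_principal (A := Y.presheaf.stalk (f x)) hg (hgJ ▸ hb)
        exact zz fun hF => Ideal.span_singleton_eq_top.1 (hgJ.symm.trans (hfld x hF))
      · rw [stalkIdeal_comap] at hb
        have zz := bad_of_bad_map (A := Y.presheaf.stalk (f x)) (I := stalkIdeal I (f x)) hb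
        exact ⟨dim_eq_one_of_bad hn (f x) zz.1, zz.2⟩
    have hxm : IsMaxFibre f x := isMaxFibre_of_bad f x (hfib _ key.1) key.2
    rw [hmax _ key.1 x rfl hxm, stalkIdeal_comap, stalkIdeal_ordSheaf_of_dim_one hn (f x) key.1]
  have heq : I.comap f = J := le_antisymm
    (le_of_bad _ _ fun x hx => (hagree x (.inl hx)).le) (le_of_bad _ _ fun x hx => (hagree x (.inr hx)).ge)
  refine ⟨I, isEffCartier_of_stalk fun y _ => ?_, heq⟩
  obtain ⟨x, rfl⟩ := f.surjective y
  obtain ⟨g, hg, hgJ⟩ := exists_stalk_generator hJ x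
  rw [← heq, stalkIdeal_comap] at hgJ
  have hspan : stalkIdeal I (f x) = Ideal.span (Set.range fun a : stalkIdeal I (f x) => a.1) := by
    rw [Subtype.range_coe_subtype]
    exact (Ideal.span_eq _).symm
  obtain ⟨a, ha, han, -⟩ := SpFP87.exists_generator_of_map_local (f.stalkMap x).hom
    (Flat.stalkMap f x) _ _ hspan hg hgJ
  exact ⟨a.1, han, ha⟩

omit [IsLocallyNoetherian X] [IsLocallyNoetherian Y] in
/-- An integral scheme has no embedded associated points. -/
theorem eq_of_isAssociatedPrime {Z : Scheme.{u}} [IsIntegral Z] {z z' : Z} [IsNoetherianRing (Z.presheaf.stalk z)]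
    (h : IsAssociatedPrime (maximalIdeal (Z.presheaf.stalk z)) (Z.presheaf.stalk z)) (hzz : z' ⤳ z) : z' = z := by
  rw [isAssociatedPrime_iff] at h
  obtain ⟨-, e, he⟩ := h
  refine maximal_of_isField z (isField_iff_maximalIdeal_eq.2 (le_bot_iff.1 fun t ht => ?_)) z' hzz
  have h1 : t * e = 0 := by
    have := he.le ht
    rwa [Submodule.mem_colon_singleton, Submodule.mem_bot] at this
  refine Ideal.mem_bot.2 ((mul_eq_zero.1 h1).resolve_right fun h0 => (maximalIdeal.isMaximal (Z.presheaf.stalk z)).ne_top ?_)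
  rw [he, eq_top_iff]
  exact fun a _ => Submodule.mem_colon_singleton.2 (by rw [h0, smul_zero]; exact Submodule.zero_mem _)

/-- At the maximal point of an integral fibre over a point of dimension one, a divisor is a power of the
uniformizer. -/
theorem exists_pow_of_isIntegral_fiber (hY : Pi1.IsNormalScheme Y) (J : X.IdealSheafData)
    (hJ : BlowUp.IsEffCartierIdeal J) (y : Y) (hy : ringKrullDim (Y.presheaf.stalk y) = 1)
    (hint : IsIntegral (f.fiber y)) :
    ∃ n : ℕ, ∀ t : Y.presheaf.stalk y, maximalIdeal (Y.presheaf.stalk y) = Ideal.span {t} →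
      ∀ (x : X) (hx : f x = y), IsMaxFibre f x →
        stalkIdeal J x =
          Ideal.span {((f.stalkMap x).hom ((Y.presheaf.stalkCongr (.of_eq hx.symm)).hom t)) ^ n} := by
  obtain ⟨x₀, rfl⟩ := f.surjective y
  obtain ⟨x₁, -, hx₁, hmax₁⟩ := exists_isMaxFibre f x₀
  rw [← hx₁] at hy hint ⊢
  clear hx₁
  haveI := (hY (f x₁)).1
  haveI := (hY (f x₁)).2
  obtain ⟨t₀, ht₀, hdvr⟩ := exists_uniformizer (Y.presheaf.stalk (f x₁)) hy
  letI := (f.stalkMap x₁).hom.toAlgebra
  haveI : Module.Flat (Y.presheaf.stalk (f x₁)) (X.presheaf.stalk x₁) := Flat.stalkMap f x₁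
  let s : X.presheaf.stalk x₁ := (f.stalkMap x₁).hom t₀
  have ht0 : t₀ ≠ 0 := ((IsDiscreteValuationRing.irreducible_iff_uniformizer t₀).2 ht₀).ne_zero
  have hs : s ∈ (X.presheaf.stalk x₁)⁰ := by
    have hreg := Module.Flat.isSMulRegular_of_nonZeroDivisors (M := X.presheaf.stalk x₁)
      (mem_nonZeroDivisors_of_ne_zero ht0)
    refine mem_nonZeroDivisors_iff_right.2 fun a ha => hreg ?_
    change t₀ • a = t₀ • (0 : X.presheaf.stalk x₁)
    rw [smul_zero, Algebra.smul_def, mul_comm]
    exact ha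
  have hsI : fibreIdeal f x₁ = Ideal.span {s} := by
    rw [fibreIdeal, ht₀, Ideal.map_span, Set.image_singleton]
  have hm : maximalIdeal (X.presheaf.stalk x₁) = Ideal.span {s} := by
    rw [← hsI]
    haveI : (fibreIdeal f x₁).IsPrime := by
      have hz := f.fiberι_asFiber x₁
      generalize f.asFiber x₁ = z at hz
      have : (fibreIdeal f (f.fiberι (f x₁) z)).IsPrime := by
        rw [fibreIdeal, ← FlatMor68.FibreStalk.ker_fiberι_stalkMap f (f x₁) z]
        exact RingHom.ker_isPrime _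
      exact hz ▸ this
    exact (eq_maximalIdeal_of_isMaxFibre f hmax₁ _ ‹_› le_rfl).symm
  obtain ⟨_, hdvrB⟩ := Div89.isDiscreteValuationRing_of_principal_nzd _ hs hm
  obtain ⟨g, hg, hgJ⟩ := exists_stalk_generator hJ x₁
  have hne : stalkIdeal J x₁ ≠ ⊥ := fun e => nonZeroDivisors.ne_zero hg
    (Ideal.span_singleton_eq_bot.1 (hgJ.symm.trans e))
  obtain ⟨n, hn⟩ := IsDiscreteValuationRing.ideal_eq_span_pow_irreducible hne
    ((IsDiscreteValuationRing.irreducible_iff_uniformizer s).2 hm)
  refine ⟨n, fun t ht x hx hxm => ?_⟩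
  have hxx : x = x₁ := by
    obtain ⟨z, hz⟩ : x ∈ Set.range (f.fiberι (f x₁)) := by rw [Scheme.Hom.range_fiberι]; exact hx
    obtain ⟨z₁, hz₁⟩ : x₁ ∈ Set.range (f.fiberι (f x₁)) := ⟨_, f.fiberι_asFiber x₁⟩
    haveI := hint
    obtain ⟨η, hη⟩ : ∃ η : ↥(f.fiber (f x₁)), ∀ w, η ⤳ w :=
      ⟨genericPoint _, fun w => (genericPoint_spec _).specializes trivial⟩
    have key : ∀ (a : X) (b : ↥(f.fiber (f x₁))), f.fiberι (f x₁) b = a → f a = f x₁ → IsMaxFibre f a →
        f.fiberι (f x₁) η = a := fun a b hb ha ham => by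
      refine ham _ ?_ (hb ▸ (hη b).map (f.fiberι (f x₁)).continuous)
      have : f.fiberι (f x₁) η ∈ Set.range (f.fiberι (f x₁)) := ⟨η, rfl⟩
      rw [Scheme.Hom.range_fiberι] at this
      exact (Set.mem_preimage.1 this).trans ha.symm
    exact (key x z hz hx hxm).symm.trans (key x₁ z₁ hz₁ rfl hmax₁)
  subst hxx
  rw [hn, stalkCongr_refl_apply, ← Ideal.span_singleton_pow, ← Ideal.span_singleton_pow, ← hsI,
    fibreIdeal, ht, Ideal.map_span, Set.image_singleton]

end Groth.Agent.An92.DivDesc
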