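import Groth.Agent.An92.DivDesc.Algebra
import Groth.Agent.FlatMor68.FibreStalk
import Groth.Agent.Cyc90.LimitPts
import Groth.Agent.Div89.Comap
import Mathlib.RingTheory.DiscreteValuationRing.TFAE

/-! Maximal and associated points of fibres in terms of the local rings of the total space. -/

set_option autoImplicit false
set_option linter.style.haveILetI false

universe u

open CategoryTheory AlgebraicGeometry IsLocalRing

namespace Groth.Agent.An92.DivDesc

variable {X Y : Scheme.{u}} (f : X ⟶ Y)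

/-- The ideal of the fibre in the local ring. -/
noncomputable abbrev fibreIdeal (x : X) : Ideal (X.presheaf.stalk x) :=
  (maximalIdeal (Y.presheaf.stalk (f x))).map (f.stalkMap x).hom

/-- `x` is a maximal point of its fibre. -/
def IsMaxFibre (x : X) : Prop := ∀ z : X, f z = f x → z ⤳ x → z = x

/-- A prime over the fibre ideal is a generization in the same fibre. -/
theorem apply_fromSpecStalk_of_le (x : X) (p : PrimeSpectrum (X.presheaf.stalk x))
    (hp : fibreIdeal f x ≤ p.asIdeal) : f (X.fromSpecStalk x p) = f x := by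
  have h1 : p.comap (f.stalkMap x).hom = closedPoint (Y.presheaf.stalk (f x)) :=
    PrimeSpectrum.ext ((maximalIdeal.isMaximal _).eq_of_le
      (Ideal.comap_ne_top _ p.2.ne_top) (Ideal.map_le_iff_le_comap.1 hp)).symm
  refine (congrArg (fun k : _ ⟶ Y => k p) (Scheme.SpecMap_stalkMap_fromSpecStalk f (x := x))).symm.trans ?_
  exact (congrArg (fun q => Y.fromSpecStalk (f x) q) h1).trans Scheme.fromSpecStalk_closedPoint

theorem fibreIdeal_ne_top (x : X) : fibreIdeal f x ≠ ⊤ :=
  ne_top_of_le_ne_top (maximalIdeal.isMaximal _).ne_top (Cyc90.map_maximalIdeal_le f x)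

/-- Every point generizes to a maximal point of its fibre. -/
theorem exists_isMaxFibre (x₀ : X) : ∃ x, x ⤳ x₀ ∧ f x = f x₀ ∧ IsMaxFibre f x := by
  obtain ⟨Q, hQ, -⟩ := Ideal.exists_le_maximal _ (fibreIdeal_ne_top f x₀)
  obtain ⟨P, hP, -⟩ := Ideal.exists_minimalPrimes_le (I := fibreIdeal f x₀) (J := maximalIdeal _)
    (Cyc90.map_maximalIdeal_le f x₀)
  let p : PrimeSpectrum (X.presheaf.stalk x₀) := ⟨P, hP.1.1⟩
  refine ⟨_, Cyc90.fromSpecStalk_specializes p, apply_fromSpecStalk_of_le f x₀ p hP.1.2, fun z hz hzx => ?_⟩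
  have hzx₀ : z ⤳ x₀ := hzx.trans (Cyc90.fromSpecStalk_specializes p)
  have h1 := Cyc90.map_maximalIdeal_le_genPrime f hzx₀
    (hz.trans (apply_fromSpecStalk_of_le f x₀ p hP.1.2))
  have h2 : (Cyc90.genPrime hzx₀).asIdeal ≤ p.asIdeal := by
    rw [← Cyc90.genPrime_fromSpecStalk p, Cyc90.genPrime_le_iff]
    exact hzx
  have h3 : Cyc90.genPrime hzx₀ = p :=
    PrimeSpectrum.ext (le_antisymm h2 (hP.2 ⟨(Cyc90.genPrime hzx₀).2, h1⟩ h2))
  exact (Cyc90.fromSpecStalk_genPrime hzx₀).symm.trans (congrArg (fun q => X.fromSpecStalk x₀ q) h3)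

/-- The fibre ideal at a maximal point of a fibre has the closed point as its only prime. -/
theorem eq_maximalIdeal_of_isMaxFibre {x : X} (hx : IsMaxFibre f x) (P : Ideal (X.presheaf.stalk x))
    (hP : P.IsPrime) (hle : fibreIdeal f x ≤ P) : P = maximalIdeal _ := by
  let p : PrimeSpectrum (X.presheaf.stalk x) := ⟨P, hP⟩
  have h := hx _ (apply_fromSpecStalk_of_le f x p hle) (Cyc90.fromSpecStalk_specializes p)
  have he : p = closedPoint _ := (X.fromSpecStalk x).isEmbedding.injective
    (h.trans Scheme.fromSpecStalk_closedPoint.symm)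
  exact congrArg PrimeSpectrum.asIdeal he

theorem bad_fibreIdeal_of_isMaxFibre [IsLocallyNoetherian X] {x : X} (hx : IsMaxFibre f x) :
    Bad (fibreIdeal f x) := by
  obtain ⟨c, -, e, he, Q, hQ, hQc, hQe⟩ := exists_prime_of_not_le (I := (⊤ : Ideal (X.presheaf.stalk x)))
    (J := fibreIdeal f x) (fun h => fibreIdeal_ne_top f x (top_le_iff.1 h))
  have hQm := eq_maximalIdeal_of_isMaxFibre f hx Q hQ fun s hs => hQc s (Ideal.mul_mem_right c _ hs)
  exact ⟨e, he, fun t ht => (hQe t).1 (hQm ▸ ht)⟩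

/-- An embedded point of the fibre ideal is an associated point of the fibre. -/
theorem isAssociatedPrime_fiber [IsLocallyNoetherian X] {s : Y} {x : X} (z : ↥(f.fiber s)) (hz : f.fiberι s z = x)
    (h : Bad (fibreIdeal f x)) :
    IsAssociatedPrime (maximalIdeal ↑((f.fiber s).presheaf.stalk z)) ↑((f.fiber s).presheaf.stalk z) := by
  subst hz
  obtain ⟨c, hc, hmc⟩ := h
  have hker := FlatMor68.FibreStalk.ker_fiberι_stalkMap f s z
  have hsurj := FlatMor68.FibreStalk.fiberι_stalkMap_surjective f s z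
  let ψ := ((f.fiberι s).stalkMap z).hom
  haveI : IsNoetherianRing ((f.fiber s).presheaf.stalk z) :=
    isNoetherianRing_of_surjective (X.presheaf.stalk (f.fiberι s z)) _ ψ hsurj
  rw [isAssociatedPrime_iff]
  refine ⟨inferInstance, ψ c, le_antisymm (fun r hr => ?_) ?_⟩
  · obtain ⟨t, rfl⟩ := hsurj r
    rw [Submodule.mem_colon_singleton, Submodule.mem_bot, smul_eq_mul]
    change ψ t * ψ c = 0
    rw [← map_mul, ← RingHom.mem_ker]
    refine hker.ge (hmc t ?_)
    rw [mem_maximalIdeal, mem_nonunits_iff] at hr ⊢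
    exact fun hu => hr (hu.map ψ)
  · refine le_maximalIdeal fun htop => hc ?_
    have h1 := Submodule.mem_colon_singleton.1 (htop ▸ Submodule.mem_top (x := (1 : (f.fiber s).presheaf.stalk z)))
    rw [Submodule.mem_bot, one_smul] at h1
    exact hker.le (RingHom.mem_ker.2 h1)

/-- Where the fibres have no embedded points, embedded points of the fibre ideal are maximal. -/
theorem isMaxFibre_of_bad [IsLocallyNoetherian X] (x : X)
    (hfib : ∀ z z' : ↥(f.fiber (f x)),
      IsAssociatedPrime (maximalIdeal ↑((f.fiber (f x)).presheaf.stalk z)) ↑((f.fiber (f x)).presheaf.stalk z) →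
      IsAssociatedPrime (maximalIdeal ↑((f.fiber (f x)).presheaf.stalk z')) ↑((f.fiber (f x)).presheaf.stalk z') →
      z' ⤳ z → z' = z)
    (h : Bad (fibreIdeal f x)) : IsMaxFibre f x := by
  obtain ⟨x', hx', hfx', hmax⟩ := exists_isMaxFibre f x
  obtain ⟨z', hz'⟩ : x' ∈ Set.range (f.fiberι (f x)) := by
    rw [Scheme.Hom.range_fiberι]; exact hfx'
  have e : z' = f.asFiber x := hfib _ _ (isAssociatedPrime_fiber f _ (f.fiberι_asFiber x) h)
    (isAssociatedPrime_fiber f z' hz' (bad_fibreIdeal_of_isMaxFibre f hmax)) (by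
      rw [← (f.fiberι (f x)).isEmbedding.isInducing.specializes_iff, hz', f.fiberι_asFiber]
      exact hx')
  have : x' = x := by rw [← hz', e, f.fiberι_asFiber]
  exact this ▸ hmax

/-- An ideal sheaf is the unit ideal on a fibre iff it is comaximal with the fibre ideal along it. -/
theorem comap_fiberι_eq_top_iff (J : X.IdealSheafData) (s : Y) :
    J.comap (f.fiberι s) = ⊤ ↔ ∀ x : X, f x = s → Div89.stalkIdeal J x ⊔ fibreIdeal f x = ⊤ := by
  have key : ∀ z, Div89.stalkIdeal (J.comap (f.fiberι s)) z = ⊤ ↔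
      Div89.stalkIdeal J (f.fiberι s z) ⊔ fibreIdeal f (f.fiberι s z) = ⊤ := fun z => by
    rw [Div89.stalkIdeal_comap, fibreIdeal, ← FlatMor68.FibreStalk.ker_fiberι_stalkMap f s z,
      RingHom.ker_eq_comap_bot, ← Ideal.comap_map_of_surjective _
        (FlatMor68.FibreStalk.fiberι_stalkMap_surjective f s z), Ideal.comap_eq_top_iff]
  constructor
  · intro h x hx
    obtain ⟨z, rfl⟩ : x ∈ Set.range (f.fiberι s) := by
      rw [Scheme.Hom.range_fiberι]; exact hx
    rw [← key, h, Div89.stalkIdeal_top]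
  · intro h
    refine Div89.ext_stalkIdeal fun z => ?_
    rw [Div89.stalkIdeal_top, key]
    refine h _ ?_
    have h1 : f.fiberι s z ∈ Set.range (f.fiberι s) := ⟨z, rfl⟩
    rw [Scheme.Hom.range_fiberι] at h1
    exact h1

/-- A local ring of dimension one, integrally closed, has principal maximal ideal. -/
theorem exists_uniformizer (A : Type u) [CommRing A] [IsDomain A] [IsNoetherianRing A] [IsLocalRing A]
    [IsIntegrallyClosed A] (h : ringKrullDim A = 1) :
    ∃ t : A, maximalIdeal A = Ideal.span {t} ∧ IsDiscreteValuationRing A := by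
  have hnf : ¬ IsField A := fun hf => by
    rw [ringKrullDim_eq_zero_of_isField hf] at h
    exact zero_ne_one h
  haveI : Ring.KrullDimLE 1 A := Ring.krullDimLE_iff.2 h.le
  have hu : ∃! P : Ideal A, P ≠ ⊥ ∧ P.IsPrime :=
    ⟨maximalIdeal A, ⟨fun e => hnf (isField_iff_maximalIdeal_eq.2 e), inferInstance⟩, fun P hP =>
      eq_maximalIdeal (hP.2.isMaximal_of_ne_bot hP.1)⟩
  haveI : IsDiscreteValuationRing A :=
    ((IsDiscreteValuationRing.TFAE A hnf).out 3 0).1
      (show IsIntegrallyClosed A ∧ ∃! P : Ideal A, P ≠ ⊥ ∧ P.IsPrime from ⟨inferInstance, hu⟩)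
  obtain ⟨t, ht⟩ := IsDiscreteValuationRing.exists_irreducible A
  exact ⟨t, ht.maximalIdeal_eq, ‹_›⟩

end Groth.Agent.An92.DivDesc
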