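import Groth.Agent.An92.DivDesc.Fibre
import Groth.Agent.Cyc90.CMDim

/-! The ideal sheaf of functions with prescribed orders at a locally finite set of points. -/

set_option autoImplicit false
set_option linter.style.haveILetI false

universe u

open CategoryTheory AlgebraicGeometry IsLocalRing Opposite
open Groth.Agent.Div89

namespace Groth.Agent.An92.DivDesc

variable {Y : Scheme.{u}}

/-- Sections of order at least `n q` at each point `q` of an affine open. -/
noncomputable def ordOn (n : Y → ℕ) (V : Y.affineOpens) : Ideal Γ(Y, V.1) :=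
  ⨅ q : V.1, (maximalIdeal (Y.presheaf.stalk q.1) ^ n q.1).comap (Y.presheaf.germ V.1 q.1 q.2).hom

theorem mem_ordOn {n : Y → ℕ} {V : Y.affineOpens} {a : Γ(Y, V.1)} :
    a ∈ ordOn n V ↔ ∀ q (hq : q ∈ V.1),
      (Y.presheaf.germ V.1 q hq).hom a ∈ maximalIdeal (Y.presheaf.stalk q) ^ n q := by
  simp only [ordOn, Submodule.mem_iInf, Ideal.mem_comap, Subtype.forall]

/-- The ideal sheaf of functions of order at least `n q` at every `q`. -/
noncomputable def ordSheaf (n : Y → ℕ)
    (hfin : ∀ V : Y.affineOpens, {q : Y | q ∈ V.1 ∧ n q ≠ 0}.Finite) : Y.IdealSheafData where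
  ideal := ordOn n
  map_ideal_basicOpen V r := by
    have hle := Y.basicOpen_le r
    refine le_antisymm (Ideal.map_le_iff_le_comap.2 fun a ha => mem_ordOn.2 fun q hq => ?_) fun b hb => ?_
    · erw [TopCat.Presheaf.germ_res_apply]
      exact mem_ordOn.1 ha q (hle hq)
    · letI : Algebra Γ(Y, V.1) Γ(Y, Y.basicOpen r) := (Y.presheaf.map (homOfLE hle).op).hom.toAlgebra
      haveI : IsLocalization.Away r Γ(Y, Y.basicOpen r) := V.2.isLocalization_basicOpen r
      obtain ⟨a, ⟨_, k, rfl⟩, rfl⟩ := IsLocalization.exists_mk'_eq (Submonoid.powers r) b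
      let N := (hfin V).toFinset.sup n
      have hN : ∀ q, q ∈ V.1 → n q ≤ N := fun q hq => by
        by_cases h0 : n q = 0
        · omega
        · exact Finset.le_sup ((hfin V).mem_toFinset.2 ⟨hq, h0⟩)
      have hmem : r ^ N * a ∈ ordOn n V := mem_ordOn.2 fun q hq => by
        rw [map_mul, map_pow]
        by_cases hqr : q ∈ Y.basicOpen r
        · refine Ideal.mul_mem_left _ _ ?_
          have h1 := mem_ordOn.1 hb q hqr
          have h2 : (Y.presheaf.germ V.1 q hq).hom a = (Y.presheaf.germ (Y.basicOpen r) q hqr).hom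
              (IsLocalization.mk' Γ(Y, Y.basicOpen r) a (⟨r ^ k, k, rfl⟩ : Submonoid.powers r)) *
              (Y.presheaf.germ V.1 q hq).hom (r ^ k) := by
            have := congrArg (Y.presheaf.germ (Y.basicOpen r) q hqr).hom
              (IsLocalization.mk'_spec Γ(Y, Y.basicOpen r) a (⟨r ^ k, k, rfl⟩ : Submonoid.powers r))
            rw [map_mul] at this
            refine Eq.trans ?_ (this.symm.trans (congrArg (_ * ·) ?_))
            · exact (TopCat.Presheaf.germ_res_apply _ _ _ _ _).symm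
            · exact TopCat.Presheaf.germ_res_apply _ _ _ _ _
          rw [h2]
          exact Ideal.mul_mem_right _ _ h1
        · refine Ideal.mul_mem_right _ _ (Ideal.pow_le_pow_right (hN q hq) (Ideal.pow_mem_pow ?_ N))
          exact fun hu => hqr ((Y.mem_basicOpen r q hq).2 hu)
      rw [IsLocalization.mk'_eq_mul_mk'_one]
      refine Ideal.mul_mem_right _ _ ?_
      have hu : IsUnit (algebraMap Γ(Y, V.1) Γ(Y, Y.basicOpen r) (r ^ N)) :=
        IsLocalization.map_units Γ(Y, Y.basicOpen r) (⟨r ^ N, N, rfl⟩ : Submonoid.powers r)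
      have h3 := Ideal.mem_map_of_mem (algebraMap Γ(Y, V.1) Γ(Y, Y.basicOpen r)) hmem
      rw [map_mul, Ideal.unit_mul_mem_iff_mem _ hu] at h3
      exact h3

variable {n : Y → ℕ} {hfin : ∀ V : Y.affineOpens, {q : Y | q ∈ V.1 ∧ n q ≠ 0}.Finite}

/-- Membership in the stalk of the ideal sheaf. -/
theorem mem_stalkIdeal_ordSheaf (z : Y) (c : Y.presheaf.stalk z) :
    c ∈ stalkIdeal (ordSheaf n hfin) z ↔
      ∀ q (h : q ⤳ z), (Y.presheaf.stalkSpecializes h).hom c ∈ maximalIdeal (Y.presheaf.stalk q) ^ n q := by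
  classical
  obtain ⟨V, hz⟩ := exists_affine_mem z
  rw [stalkIdeal_eq _ V z hz]
  constructor
  · intro hc q h
    have hle : (ordOn n V).map (Y.presheaf.germ V.1 z hz).hom ≤
        (maximalIdeal (Y.presheaf.stalk q) ^ n q).comap (Y.presheaf.stalkSpecializes h).hom :=
      Ideal.map_le_iff_le_comap.2 fun a ha => by
        rw [Ideal.mem_comap, Ideal.mem_comap]
        erw [TopCat.Presheaf.germ_stalkSpecializes_apply]
        exact mem_ordOn.1 ha q (mem_affine_of_specializes h hz)
    exact hle hc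
  · intro hc
    letI := stalkAlg V.1 z hz
    haveI := isLocalization_stalk V z hz
    obtain ⟨a, s, rfl⟩ := IsLocalization.exists_mk'_eq (primeAt V z hz).primeCompl c
    let S := (hfin V).toFinset.filter fun q => ¬ q ⤳ z
    have hr : ∀ q ∈ S, ∃ r : Γ(Y, V.1), r ∉ primeAt V z hz ∧ ∀ hq : q ∈ V.1, r ∈ primeAt V q hq := by
      intro q hq
      obtain ⟨hq1, hq2⟩ := Finset.mem_filter.1 hq
      have hqV := ((hfin V).mem_toFinset.1 hq1).1
      obtain ⟨r, hr1, hr2⟩ := SetLike.not_le_iff_exists.1
        (mt (specializes_iff_primeAt_le V hz hqV).2 hq2)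
      exact ⟨r, hr2, fun _ => hr1⟩
    choose! r hr1 hr2 using hr
    let N := (hfin V).toFinset.sup n
    let P := (∏ q ∈ S, r q) ^ N
    have hP : P ∉ primeAt V z hz :=
      pow_mem (S := (primeAt V z hz).primeCompl) (prod_mem (S := (primeAt V z hz).primeCompl) fun q hq => hr1 q hq) N
    have hmem : P * a ∈ ordOn n V := mem_ordOn.2 fun q hq => by
      by_cases h0 : n q = 0
      · simp [h0]
      rw [map_mul]
      by_cases hqz : q ⤳ z
      · refine Ideal.mul_mem_left _ _ ?_
        have h1 := hc q hqz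
        have h2 : (Y.presheaf.germ V.1 q hq).hom a = (Y.presheaf.stalkSpecializes hqz).hom
            (IsLocalization.mk' (Y.presheaf.stalk z) a s) * (Y.presheaf.germ V.1 q hq).hom s := by
          have := congrArg (Y.presheaf.stalkSpecializes hqz).hom
            (IsLocalization.mk'_spec (Y.presheaf.stalk z) a s)
          rw [map_mul] at this
          refine Eq.trans ?_ (this.symm.trans (congrArg (_ * ·) ?_))
          · exact (TopCat.Presheaf.germ_stalkSpecializes_apply _ _ _ _).symm
          · exact TopCat.Presheaf.germ_stalkSpecializes_apply _ _ _ _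
        rw [h2]
        exact Ideal.mul_mem_right _ _ h1
      · have hqS : q ∈ S := Finset.mem_filter.2 ⟨(hfin V).mem_toFinset.2 ⟨hq, h0⟩, hqz⟩
        refine Ideal.mul_mem_right _ _ (Ideal.pow_le_pow_right
          (Finset.le_sup (f := n) ((hfin V).mem_toFinset.2 ⟨hq, h0⟩)) ?_)
        rw [map_pow]
        refine Ideal.pow_mem_pow ?_ N
        exact fun hu => (mem_primeAt_iff V q hq _).1 (Ideal.prod_mem _ hqS (hr2 q hqS hq)) ((Y.mem_basicOpen _ q hq).2 hu)
    have h3 : algebraMap Γ(Y, V.1) (Y.presheaf.stalk z) (P * a) ∈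
        (ordOn n V).map (algebraMap Γ(Y, V.1) (Y.presheaf.stalk z)) := Ideal.mem_map_of_mem _ hmem
    rw [map_mul, Ideal.unit_mul_mem_iff_mem _
      (IsLocalization.map_units (Y.presheaf.stalk z) (⟨P, hP⟩ : (primeAt V z hz).primeCompl))] at h3
    rw [IsLocalization.mk'_eq_mul_mk'_one]
    exact Ideal.mul_mem_right _ _ h3

/-- Proper generizations drop the dimension of the local ring. -/
theorem ringKrullDim_lt_of_specializes [IsLocallyNoetherian Y] {q y : Y} (h : q ⤳ y) (hne : q ≠ y) :
    ringKrullDim (Y.presheaf.stalk q) < ringKrullDim (Y.presheaf.stalk y) := by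
  have hlt : (Cyc90.genPrime h).asIdeal < maximalIdeal _ := by
    refine lt_of_le_of_ne (le_maximalIdeal (Cyc90.genPrime h).2.ne_top) fun e => hne ?_
    rw [← Cyc90.genPrime_eq_iff h (specializes_refl y), Cyc90.genPrime_refl]
    exact PrimeSpectrum.ext e
  haveI := Cyc90.isLocalization_genPrime h
  letI := (Y.presheaf.stalkSpecializes h).hom.toAlgebra
  rw [IsLocalization.AtPrime.ringKrullDim_eq_height (Cyc90.genPrime h).asIdeal,
    ← maximalIdeal_height_eq_ringKrullDim]
  exact WithBot.coe_lt_coe.2 (Ideal.height_strict_mono_of_isPrime hlt)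

/-- At a point of dimension one only its own order matters. -/
theorem stalkIdeal_ordSheaf (y : Y)
    (hy : ∀ q, q ⤳ y → n q ≠ 0 → q = y) :
    stalkIdeal (ordSheaf n hfin) y = maximalIdeal (Y.presheaf.stalk y) ^ n y := by
  refine le_antisymm (fun c hc => ?_) fun c hc => (mem_stalkIdeal_ordSheaf y c).2 fun q h => ?_
  · have := (mem_stalkIdeal_ordSheaf y c).1 hc y (specializes_refl y)
    rwa [TopCat.Presheaf.stalkSpecializes_refl] at this
  · by_cases h0 : n q = 0
    · simp [h0]
    obtain rfl := hy q h h0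
    rwa [TopCat.Presheaf.stalkSpecializes_refl]

theorem stalkIdeal_ordSheaf_of_dim_one [IsLocallyNoetherian Y]
    (hn : ∀ q, n q ≠ 0 → ringKrullDim (Y.presheaf.stalk q) = 1) (y : Y)
    (hy : ringKrullDim (Y.presheaf.stalk y) = 1) :
    stalkIdeal (ordSheaf n hfin) y = maximalIdeal (Y.presheaf.stalk y) ^ n y :=
  stalkIdeal_ordSheaf y fun q h h0 => by
    by_contra hne
    have := ringKrullDim_lt_of_specializes h hne
    rw [hn q h0, hy] at this
    exact lt_irrefl _ this

/-- An embedded point of the ideal sheaf has dimension one. -/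
theorem dim_eq_one_of_bad [IsLocallyNoetherian Y]
    (hn : ∀ q, n q ≠ 0 → ringKrullDim (Y.presheaf.stalk q) = 1) (y : Y)
    (h : Bad (stalkIdeal (ordSheaf n hfin) y)) : ringKrullDim (Y.presheaf.stalk y) = 1 := by
  obtain ⟨c, hc, hmc⟩ := h
  by_contra hy
  refine hc ((mem_stalkIdeal_ordSheaf y c).2 fun q hq => ?_)
  by_cases h0 : n q = 0
  · simp [h0]
  have hne : q ≠ y := fun e => hy (e ▸ hn q h0)
  obtain ⟨t, ht, htq⟩ := SetLike.not_le_iff_exists.1 (show ¬ maximalIdeal _ ≤ (Cyc90.genPrime hq).asIdeal from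
    fun hle => hne (by
      rw [← Cyc90.genPrime_eq_iff hq (specializes_refl y), Cyc90.genPrime_refl]
      exact PrimeSpectrum.ext ((maximalIdeal.isMaximal _).eq_of_le (Cyc90.genPrime hq).2.ne_top hle).symm))
  have h1 := (mem_stalkIdeal_ordSheaf y _).1 (hmc t ht) q hq
  rw [map_mul] at h1
  exact (Ideal.unit_mul_mem_iff_mem _ (not_not.1 htq)).1 h1

end Groth.Agent.An92.DivDesc
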